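import Cfsg.Agent.H861.Gen.CoOneCert
import Cfsg.Agent.S2069

/-!
# `Co1`: three conjugates of any element of prime order generate (helper861, S4327)

`cg_co1` : all elements of prime order; `gen_Co1` : the row.
-/

set_option autoImplicit false

namespace Cfsg.Agent.H861.Gen

open Subgroup Cfsg.Agent.H147.Gen

/-- if `p` divides the order of the group exactly once, one element of order `p` is enough -/
theorem cg_of_sylow {L : Type*} [Group L] [Finite L] {p k : ℕ} (hp : p.Prime) (hn : ¬ p ^ 2 ∣ Nat.card L) {z x : L}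
    (hz : orderOf z = p) (hx : orderOf x = p) (h : CG k z) : CG k x := by
  have : Fact p.Prime := ⟨hp⟩
  have key : ∀ u : L, orderOf u = p → ∃ P : Sylow p L, (P : Subgroup L) = zpowers u := by
    intro u hu
    have h1 : IsPGroup p (zpowers u) := IsPGroup.of_card (n := 1) (by rw [Nat.card_zpowers, hu, pow_one])
    obtain ⟨P, hP⟩ := h1.exists_le_sylow
    refine ⟨P, (Subgroup.eq_of_le_of_card_ge hP ?_).symm⟩
    rw [Nat.card_zpowers, hu, P.card_eq_multiplicity]
    have h2 : (Nat.card L).factorization p ≤ 1 := by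
      by_contra hlt
      push Not at hlt
      exact hn ((pow_dvd_pow p hlt).trans (Nat.ordProj_dvd _ _))
    calc p ^ (Nat.card L).factorization p ≤ p ^ 1 := Nat.pow_le_pow_right hp.pos h2
      _ = p := pow_one p
  obtain ⟨P, hP⟩ := key z hz
  obtain ⟨Q, hQ⟩ := key x hx
  obtain ⟨g, hg⟩ := MulAction.exists_smul_eq L Q P
  have h1 : g * x * g⁻¹ ∈ zpowers z := by
    rw [← hP, ← hg, Sylow.coe_subgroup_smul, hQ]
    exact ⟨x, mem_zpowers x, rfl⟩
  have h2 : orderOf (g * x * g⁻¹) = p := by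
    rw [← hx]
    exact (orderOf_injective (MulAut.conj g).toMonoidHom (MulAut.conj g).injective x)
  have h3 : zpowers (g * x * g⁻¹) = zpowers z := by
    apply Subgroup.eq_of_le_of_card_ge
    · rw [zpowers_le]; exact h1
    · rw [Nat.card_zpowers, Nat.card_zpowers, hz, h2]
  have h4 : z ∈ zpowers (g * x * g⁻¹) := by rw [h3]; exact mem_zpowers z
  exact CG.of_conj g (of_mem_zpowers h h4)

end Cfsg.Agent.H861.Gen

namespace Cfsg.Agent.H861.Gen.CoOne

open Cfsg Subgroup Cfsg.Agent.SporadicA Cfsg.Agent.SporadicStructure.Co0Matrix Cfsg.Agent.CoOneType.CoEval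
open Cfsg.Agent.LThreeCo1.Ev Cfsg.Agent.H861.Gen.CoEv Cfsg.Agent.H147.Gen Cfsg.Agent.H940 Cfsg.Agent.H940.Eng Cfsg.Agent.H147.Fpr
open Cfsg.Spor (Co1)
open Cfsg.Agent.Co2Type.Mono (cd coe_cd)
open Cfsg.Agent.CoOneType.SignFacts (wt sup mem_sup)

theorem V_one (i : ℕ) : V e [i] = pr (e i) := by
  show pr (G e [i]) = pr (e i)
  rw [G, G, one_mul]

theorem cg_of_chk (B : Base) {cw yw : List ℕ} {w23 w13 : List Bool} {k : ℕ} (h : chk M cw yw w23 w13 k = true) :
    CG 3 (V e cw) := by
  obtain ⟨h1, h2, h3, -⟩ := gen_of_chk B hM h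
  have := CoOne.simple
  exact CG.of_orbit h1 (by norm_num) h2 h3

/-! ### involutions -/

theorem wt_of_fin {m n : ℕ} (hm : GolayBase.isCode m = true) (h : (GolayBase.fin m).card = n) : wt (cd m) = n := by
  have h1 : sup (cd m) = GolayBase.fin m := by
    ext i
    rw [mem_sup, coe_cd hm, GolayBase.word_apply]
    unfold GolayBase.fin
    rw [Finset.mem_filter]
    by_cases h : m.testBit (GolayBase.idx i) = true
    · simp [h]
    · simp [h]
  show (sup (cd m)).card = n
  rw [h1, h]

theorem wt_o : wt (cd 4282144) = 8 := wt_of_fin (by decide +kernel) (by decide +kernel)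
theorem wt_d : wt (cd 12080399) = 12 := wt_of_fin (by decide +kernel) (by decide +kernel)

open Cfsg.Agent.CoOneType.ClosingFacts Cfsg.Agent.CoOneType.ClosingMain Cfsg.Agent.SporadicA.Co1Simple in
theorem cg_two (B : Base) {x : Co1} (hx : orderOf x = 2) : CG 3 x := by
  have hx2 : x * x = 1 := by rw [← pow_two, ← hx]; exact pow_orderOf_eq_one x
  have hx1 : x ≠ 1 := by
    rintro rfl
    rw [orderOf_one] at hx
    omega
  rcases co1_cases _ _ a1 a1' wt_o wt_d x hx2 hx1 with h | h | ⟨t, rfl, g, hg⟩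
  · refine CG.of_isConj h ?_
    have h1 := cg_of_chk B k_c2A
    rwa [V_one] at h1
  · refine CG.of_isConj h ?_
    have h1 := cg_of_chk B k_c2C
    rwa [V_one] at h1
  · have h1 := cg_of_chk B k_c2B
    rw [V_one] at h1
    have h2 : BpSevenCo.Data.e 4 * BpSevenCo.Data.e 4 = Co0Mono.signCo0 allOne := by
      rw [← neg_eq]
      exact BpSevenCo.Data.h0_sq
    obtain ⟨k, hk⟩ := a1' _ h2
    have h3 : IsConj (pr (BpSevenCo.Data.e 4)) (pr t) := by
      refine isConj_iff.2 ⟨pr (g⁻¹ * k), ?_⟩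
      have h4 : (g⁻¹ * k) * BpSevenCo.Data.e 4 * (g⁻¹ * k)⁻¹ = t := by
        calc (g⁻¹ * k) * BpSevenCo.Data.e 4 * (g⁻¹ * k)⁻¹ = g⁻¹ * (k * BpSevenCo.Data.e 4 * k⁻¹) * g := by group
          _ = g⁻¹ * (g * t * g⁻¹) * g := by rw [hk, hg]
          _ = t := by group
      rw [← h4]
      simp only [map_mul, map_inv]
    exact CG.of_isConj h3 h1

/-! ### order three, five, seven -/

theorem cg_three (B : Base) {x : Co1} (hx : orderOf x = 3) : CG 3 x := by
  obtain ⟨c, hc, g, hg⟩ := LThreeCo1.Ranks.classes hx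
  refine CG.of_conj g ?_
  rw [hg]
  rcases hc with rfl | rfl | rfl | rfl
  · have h1 := cg_of_chk B k_c3A
    rwa [V_one] at h1
  · have h1 := cg_of_chk B k_c3C
    rwa [V_one] at h1
  · have h1 := cg_of_chk B k_c3D
    rwa [V_one] at h1
  · have h1 := cg_of_chk B k_c3B
    rwa [V_one] at h1

theorem cg_five (B : Base) {x : Co1} (hx : orderOf x = 5) : CG 3 x := by
  rcases CoFive.Ranks.main_co1 hx with ⟨h, -⟩ | ⟨h, -⟩ | ⟨h, -⟩
  · refine CG.of_isConj h.symm ?_
    have h1 := cg_of_chk B k_c5B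
    rwa [V_one] at h1
  · refine CG.of_isConj h.symm ?_
    have h1 := cg_of_chk B k_c5C
    rwa [V_one] at h1
  · refine CG.of_isConj h.symm ?_
    have h1 := cg_of_chk B k_c5A
    have h2 : V e [7, 7, 9] = (QuotientGroup.mk CoFive.Class.r0 : Co1) := by
      show pr (G e [7, 7, 9]) = pr CoFive.Class.r0
      congr 1
    rwa [h2] at h1

theorem cg_seven (B : Base) {x : Co1} (hx : orderOf x = 7) : CG 3 x := by
  rcases CpAutMSeven.RanksH.main hx with h | ⟨h, -⟩
  · obtain ⟨g, i, hi, hg⟩ := BpSevenCo.Conj.conj_pow hx h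
    refine CG.of_conj g ?_
    rw [hg]
    have h1 := cg_of_chk B k_c7A
    rw [V_one] at h1
    have h2 : orderOf (BpSevenCo.Conj.x) = 7 := by
      have : Fact (Nat.Prime 7) := ⟨by norm_num⟩
      refine orderOf_eq_prime BpSevenCo.Conj.x_pow ?_
      intro h3
      rw [h3, one_pow] at hg
      have h4 : x = 1 := by
        calc x = g⁻¹ * (g * x * g⁻¹) * g := by group
          _ = 1 := by rw [hg]; group
      rw [h4, orderOf_one] at hx
      omega
    refine cg_pow (x := BpSevenCo.Conj.x) h1 ?_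
    rw [h2]
    exact (Nat.Prime.coprime_iff_not_dvd (by norm_num)).2 fun h3 => hi (Nat.mod_eq_zero_of_dvd h3)
  · refine CG.of_isConj h.symm ?_
    have h1 := cg_of_chk B k_c7B
    rw [V_one] at h1
    have h2 : CpAutMSeven.RanksH.s0 = pr (CpAutMSeven.Mat.e 0) := by
      rw [CpAutMSeven.RanksH.s0, CpAutMSeven.RanksH.r7_eq]
      rfl
    rw [h2]
    exact h1

/-! ### order eleven, thirteen, twenty-three -/

theorem card : Nat.card Co1 = 4157776806543360000 := H147.Fpr.CoOne.card

theorem c11_pow : pr (LThreeCo1.Rel.e 11) ^ 11 = 1 ∧ pr (LThreeCo1.Rel.e 11) ≠ 1 := by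
  have h1 := pow_eq_one_of_relP hM (w := [12]) (n := 11) (by decide +kernel)
  have h2 := pow_ne_one_of_neP hM (w := [12]) (n := 1) (by decide +kernel)
  rw [V_one] at h1 h2
  rw [pow_one] at h2
  exact ⟨h1, h2⟩

theorem cg_eleven (B : Base) {x : Co1} (hx : orderOf x = 11) : CG 3 x := by
  have := H147.Fpr.CoOne.fin
  have : Fact (Nat.Prime 11) := ⟨by norm_num⟩
  have h1 := cg_of_chk B k_c11
  rw [V_one] at h1
  refine cg_of_sylow (by norm_num) ?_ (orderOf_eq_prime c11_pow.1 c11_pow.2) hx h1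
  rw [card]
  norm_num

/-- the elements of order 23 and 13 of the certificate `c5C` -/
theorem c5C_facts (B : Base) : ∃ c y : Co1, c ^ 5 = 1 ∧ y ^ 3 = 1 ∧ closure {c, y} = ⊤ ∧ orderOf (c * y) = 23 ∧
    orderOf (c * (c * y)) = 13 := by
  obtain ⟨-, h2, h3, h4, h5⟩ := gen_of_chk B hM k_c5C
  refine ⟨V e [8], V e [21, 14, 27], ?_, h2, h3, ?_, ?_⟩
  · exact pow_eq_one_of_relP hM (w := [8]) (n := 5) (by decide +kernel)
  · rw [sub_cons, sub_cons, sub_nil, mul_one] at h4
    exact h4
  · rw [sub_cons, sub_cons, sub_cons, sub_nil, mul_one, pow_one] at h5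
    exact h5

theorem cg_23 (B : Base) {x : Co1} (hx : orderOf x = 23) : CG 3 x := by
  have := H147.Fpr.CoOne.fin
  have := H147.Fpr.CoOne.simple
  obtain ⟨c, y, -, h2, h3, h4, -⟩ := c5C_facts B
  refine cg_of_sylow (by norm_num) (by rw [card]; norm_num) h4 hx ?_
  refine CG.of_orbit (y := y) ?_ (by norm_num) h2 ?_
  · intro h
    rw [h, orderOf_one] at h4
    omega
  · rw [eq_top_iff, ← h3, closure_le]
    have hy : y ∈ closure ({c * y, y} : Set Co1) := Subgroup.subset_closure (Or.inr rfl)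
    rintro z (rfl | rfl)
    · have h6 : z * y ∈ closure ({z * y, y} : Set Co1) := Subgroup.subset_closure (Or.inl rfl)
      have h7 := mul_mem h6 (inv_mem hy)
      rwa [mul_inv_cancel_right] at h7
    · exact hy

theorem cg_13 (B : Base) {x : Co1} (hx : orderOf x = 13) : CG 3 x := by
  have := H147.Fpr.CoOne.fin
  have := H147.Fpr.CoOne.simple
  obtain ⟨c, y, h1, h2, h3, -, h4⟩ := c5C_facts B
  refine cg_of_sylow (by norm_num) (by rw [card]; norm_num) h4 hx ?_
  refine CG.of_orbit (y := y) ?_ (by norm_num) h2 ?_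
  · intro h
    rw [h, orderOf_one] at h4
    omega
  · rw [eq_top_iff, ← h3, closure_le]
    have hy : y ∈ closure ({c * (c * y), y} : Set Co1) := Subgroup.subset_closure (Or.inr rfl)
    rintro z (rfl | rfl)
    · have h6 : z * (z * y) ∈ closure ({z * (z * y), y} : Set Co1) := Subgroup.subset_closure (Or.inl rfl)
      have h7 := mul_mem h6 (inv_mem hy)
      have h70 : z * (z * y) * y⁻¹ = z * z := by group
      rw [h70] at h7
      have h8 := pow_mem h7 3
      have h9 : (z * z) ^ 3 = z := by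
        rw [← pow_two, ← pow_mul]
        show z ^ 6 = z
        rw [pow_succ, h1, one_mul]
      rwa [h9] at h8
    · exact hy

/-- **`Co1`: all elements of prime order** -/
theorem cg_co1 (B : Base) {x : Co1} (hx : (orderOf x).Prime) : CG 3 x := by
  have := H147.Fpr.CoOne.fin
  have h1 : orderOf x ∣ 2 ^ 21 * 3 ^ 9 * 5 ^ 4 * 7 ^ 2 * 11 * 13 * 23 := by
    have h2 := orderOf_dvd_natCard x
    rw [card] at h2
    exact h2.trans (by norm_num)
  have key : ∀ q : ℕ, q.Prime → orderOf x ∣ q → orderOf x = q := fun q hq h => (Nat.prime_dvd_prime_iff_eq hx hq).1 h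
  rcases hx.dvd_mul.1 h1 with h1 | h1
  · rcases hx.dvd_mul.1 h1 with h1 | h1
    · rcases hx.dvd_mul.1 h1 with h1 | h1
      · rcases hx.dvd_mul.1 h1 with h1 | h1
        · rcases hx.dvd_mul.1 h1 with h1 | h1
          · rcases hx.dvd_mul.1 h1 with h1 | h1
            · exact cg_two B (key 2 (by norm_num) (hx.dvd_of_dvd_pow h1))
            · exact cg_three B (key 3 (by norm_num) (hx.dvd_of_dvd_pow h1))
          · exact cg_five B (key 5 (by norm_num) (hx.dvd_of_dvd_pow h1))
        · exact cg_seven B (key 7 (by norm_num) (hx.dvd_of_dvd_pow h1))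
      · exact cg_eleven B (key 11 (by norm_num) h1)
    · exact cg_13 B (key 13 (by norm_num) h1)
  · exact cg_23 B (key 23 (by norm_num) h1)

theorem center_eq : center Co1 = ⊥ := by
  have := H147.Fpr.CoOne.simple
  rcases (inferInstance : (center Co1).Normal).eq_bot_or_eq_top with h | h
  · exact h
  · exfalso
    have h1 : ∀ a b : Co1, a * b = b * a := fun a b => by
      have h2 : b ∈ center Co1 := by rw [h]; exact mem_top b
      exact mem_center_iff.1 h2 a
    have h2 := H147.Fpr.CoOne.known23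
    -- an abelian simple group has prime order
    have := H147.Fpr.CoOne.fin
    let _ : CommGroup Co1 := { (inferInstance : Group Co1) with mul_comm := h1 }
    have h3 : (Nat.card Co1).Prime := IsSimpleGroup.prime_card
    rw [card] at h3
    revert h3
    norm_num

/-- **`Co1`, the row** -/
theorem gen_co1 (B : Base) : Gen11 Co1 := by
  have h : (MulAut.conj : Co1 →* MulAut Co1).range = ⊤ := Subgroup.index_eq_one.1 S2069.result
  refine gen11_of_inner center_eq (fun p hp g hg => ?_) (fun x => by rw [h]; exact mem_top x)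
  exact (cg_co1 B (by rw [hg]; exact hp)).mono (by norm_num)

end Cfsg.Agent.H861.Gen.CoOne

namespace Cfsg.Agent.H861.Gen

open Cfsg.Agent.H147.Gen

universe u

/-- **`Co1`** -/
theorem gen_Co1 {K : Type u} [Group K] (B : Cfsg.Agent.H940.Eng.Base) (h : Spor.IsoCo1 K) : Gen11 K := by
  obtain ⟨e⟩ := h
  exact (CoOne.gen_co1 B).congr e.symm

end Cfsg.Agent.H861.Gen
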