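import Cfsg.Agent.H861.Gen.MonCent
import Cfsg.Agent.H861.Gen.MonCh
import Cfsg.Agent.H861.Gen.CoOne
import Cfsg.Agent.H835.Mon.Row
import Cfsg.Agent.CpAutBFive.EvenRow
import Cfsg.Agent.LThreeM.FiRow
import Cfsg.Agent.KFacts.MonsterE

/-!
# S4327: the Monster (helper861)

Every nontrivial element of the Monster has 10 conjugates which generate it: `x` moves a `2A`-involution `t`; the commutator
`b = [x, t]` is a product of two `2A`-involutions, a power `y` of prime order of `b` is an involution or of order 3 or 5 and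
commutes with a conjugate of `z`, so that five conjugates of `y` generate the Monster.
-/

set_option autoImplicit false
set_option maxRecDepth 100000

namespace Cfsg.Agent.H861.Gen.Mon

open Cfsg Cfsg.Agent.MonsterX Cfsg.Agent.MonsterX.InstData Cfsg.Agent.MonsterX.MainPack Cfsg.Agent.MonsterU
open Cfsg.Agent.MonsterP Cfsg.Agent.MonsterN Cfsg.Agent.LThreeMB
open Cfsg.Agent.MonsterX.MainBasic Cfsg.Agent.MonsterX.MainSimple Cfsg.Agent.MonsterX.Model
open Cfsg.Agent.MonsterU.Lam2 Cfsg.Agent.MonsterU.TwoCls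
open Cfsg.Agent.H940.Eng (Base)
open Cfsg.Agent.H147.Gen
open Cfsg.Agent.H861.Gen.MonCent (t)
open Cfsg.Agent.BpSpor.MBigModel (MG zz pi chart)
open Cfsg.Spor (Co1)
open Subgroup (centralizer mem_centralizer_singleton_iff center zpowers)

theorem rank (E : Subgroup MG) (hE : ∀ a ∈ E, ∀ b ∈ E, a * b = b * a) (h2 : ∀ a ∈ E, a ^ 2 = 1) :
    Nat.card E ≤ 2 ^ 15 := by
  obtain ⟨e⟩ := MonsterP.Equiv.equiv
  have h3 := H332.MonUpper.monster_le (E.map e.symm.toMonoidHom) ⟨⟨by
    rintro ⟨_, a, ha, rfl⟩ ⟨_, b, hb, rfl⟩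
    apply Subtype.ext
    show e.symm a * e.symm b = e.symm b * e.symm a
    rw [← map_mul, hE a ha b hb, map_mul]⟩⟩ (by
    rintro _ ⟨a, ha, rfl⟩
    show (e.symm a) ^ 2 = 1
    rw [← map_pow, h2 a ha, map_one])
  rwa [Subgroup.card_map_of_injective e.symm.injective] at h3

theorem dat (B : Base) : H835.Mon.Dat MG KDone.K.ι.range zz (KChart.eta KDone.lft) pi where
  fin := BpSpor.MBigModel.finite
  simple := BpSpor.MBigModel.simple
  card := BpSpor.MBigModel.card_M
  chart := chart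
  cz := BpSpor.MBigModel.card_cent_z
  cls := fun _ hv => H835.Mon.Row.card_cent_model hv
  three := by
    obtain ⟨x, t, π, D⟩ := H849.FiModel.exists_data
    refine ⟨x, D.ord, ?_⟩
    rw [D.card_C, R08.FiTwentyFour.card_commutator]
  rank := rank
  ords := H940.Eng.D.ords_m B

theorem coatom (B : Base) : IsCoatom (centralizer ({zz} : Set MG)) := (dat B).coatom_z

/-- **elements of prime order of `C(z) ∖ Q`** -/
theorem cg_z (B : Base) {x : MG} (hx : x ∈ centralizer ({zz} : Set MG)) (hQ : x ∉ KDone.K.ι.range)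
    (hp : (orderOf x).Prime) : CG 5 x := by
  have hfin := BpSpor.MBigModel.finite
  have hsim := BpSpor.MBigModel.simple
  have h1 : pi ⟨x, hx⟩ ≠ 1 := fun h2 => hQ ((chart.pi_eq_one _).1 h2)
  have h2 : orderOf (pi ⟨x, hx⟩) ∣ orderOf x := by
    rw [← Subgroup.orderOf_mk x hx]
    exact orderOf_map_dvd pi _
  have h3 : (orderOf (pi ⟨x, hx⟩)).Prime := by
    rcases (Nat.dvd_prime hp).1 h2 with h4 | h4
    · exact absurd (orderOf_eq_one_iff.1 h4) h1
    · rw [h4]; exact hp
  exact MonCh.cg_lift chart (coatom B) (x := ⟨x, hx⟩) (by norm_num) hQ (CoOne.cg_co1 B h3)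

/-- elements of odd prime order commuting with a conjugate of `z` -/
theorem cg_odd (B : Base) {x g : MG} (hx : (g * zz * g⁻¹) * x = x * (g * zz * g⁻¹)) (hp : (orderOf x).Prime)
    (h2 : orderOf x ≠ 2) : CG 5 x := by
  have h3 : orderOf (g⁻¹ * x * g⁻¹⁻¹) = orderOf x := by
    rw [← MulAut.conj_apply, MulEquiv.orderOf_eq]
  refine CG.of_conj g⁻¹ (cg_z B ?_ ?_ (by rw [h3]; exact hp))
  · rw [mem_centralizer_singleton_iff, inv_inv]
    calc g⁻¹ * x * g * zz = g⁻¹ * (x * (g * zz * g⁻¹)) * g := by group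
      _ = g⁻¹ * ((g * zz * g⁻¹) * x) * g := by rw [hx]
      _ = zz * (g⁻¹ * x * g) := by group
  · intro h4
    have h5 := Subgroup.orderOf_dvd_natCard _ h4
    rw [chart.card_Q, h3] at h5
    exact h2 ((Nat.prime_dvd_prime_iff_eq hp Nat.prime_two).1 (hp.dvd_of_dvd_pow h5))

/-- **involutions** -/
theorem cg_two (B : Base) {u : MG} (hu : orderOf u = 2) : CG 5 u := by
  have hfin := BpSpor.MBigModel.finite
  have hsim := BpSpor.MBigModel.simple
  have key : ∀ n : ℤ, (n = 2 ∨ n = 4) → ∃ w ∈ KDone.K.ι.range, IsType n (KChart.eta KDone.lft w) ∧ CG 5 w := by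
    intro n hn
    obtain ⟨x, g, hx, hxQ, hw, hwn⟩ := MonCh.exists_outside chart hn
    refine ⟨_, hw, hwn, CG.conj g (cg_z B hx hxQ ?_)⟩
    have h1 : (g * x * g⁻¹) * (g * x * g⁻¹) = 1 := by
      rw [chart.sq_one hw]
      obtain ⟨v, hv, hv'⟩ := hwn
      rw [← hv', qf_cl_eq_zero, hv]
      rcases hn with rfl | rfl <;> norm_num
    have h2 : x * x = 1 := by
      calc x * x = g⁻¹ * ((g * x * g⁻¹) * (g * x * g⁻¹)) * g := by group
        _ = 1 := by rw [h1]; group
    have h3 : x ≠ 1 := by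
      rintro rfl
      exact hxQ (Subgroup.one_mem _)
    have : Fact (Nat.Prime 2) := ⟨Nat.prime_two⟩
    rw [orderOf_eq_prime (by rw [pow_two, h2]) h3]
    exact Nat.prime_two
  rcases BpSpor.MBigModel.cls hu with ⟨g, hg⟩ | h
  · obtain ⟨w, hw, hw4, hcg⟩ := key 4 (Or.inr rfl)
    obtain ⟨k, hk⟩ := conj_of_type_four chart hw hw4
    exact CG.of_isConj ((isConj_iff.2 ⟨k, hk⟩ : IsConj zz w).symm.trans (isConj_iff.2 ⟨g, hg⟩)) hcg
  · obtain ⟨_, ⟨p, rfl⟩, hw2, hcg⟩ := key 2 (Or.inl rfl)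
    have h1 : LThreeB.Row.TA (KDone.K.ι p) := BpSpor.MBigModel.ta_iota (by
      rw [← KChart.eta_ι KDone.lft p]; exact hw2)
    have h2 : IsConj (tG LitFin.all.hG LitFin.all.hR) (KDone.K.ι p) := h1
    have h3 : IsConj (tG LitFin.all.hG LitFin.all.hR) u := h
    exact CG.of_isConj (h2.symm.trans h3) hcg

theorem exists_pow {x : MG} {p : ℕ} (_hp : p.Prime) (h : p ∣ orderOf x) : ∃ n : ℕ, orderOf (x ^ n) = p := by
  have hfin := BpSpor.MBigModel.finite
  obtain ⟨k, hk⟩ := h
  have hk0 : k ≠ 0 := by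
    rintro rfl
    rw [mul_zero] at hk
    exact (orderOf_pos x).ne' hk
  refine ⟨k, ?_⟩
  rw [orderOf_pow_of_dvd hk0 ⟨p, by rw [hk, mul_comm]⟩, hk]
  exact Nat.mul_div_cancel _ (Nat.pos_of_ne_zero hk0)

/-- **products of two involutions of the class `2A`** -/
theorem cg_prod (B : Base) {w : MG} (hw : IsConj t w) (hne : w ≠ t) : CG 5 (w * t) := by
  have hfin := BpSpor.MBigModel.finite
  have hto : orderOf t = 2 := H377.SporB.orderOf_t (IsConj.refl _)
  have hwo : orderOf w = 2 := H377.SporB.orderOf_t hw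
  have htt : t * t = 1 := by rw [← pow_two, ← hto, pow_orderOf_eq_one]
  have hww : w * w = 1 := by rw [← pow_two, ← hwo, pow_orderOf_eq_one]
  have hb1 : w * t ≠ 1 := by
    intro h
    apply hne
    calc w = w * t * t := by rw [mul_assoc, htt, mul_one]
      _ = t := by rw [h, one_mul]
  -- the order divides 5 or 12
  have hord : orderOf (w * t) ∣ 5 ∨ orderOf (w * t) ∣ 12 := by
    obtain ⟨g, hg⟩ := isConj_iff.1 hw
    have h1 : orderOf (w * t) = orderOf (t * w) := by
      have h2 : w * t = t⁻¹ * (t * w) * t⁻¹⁻¹ := by group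
      rw [h2, ← MulAut.conj_apply, MulEquiv.orderOf_eq]
    have h2 := H626.MRow.Count.qf g
    rw [← MonCent.t_eq, hg] at h2
    rw [h1]
    by_cases hc : M.F M.a₀ ((g : Space.V ≃ₗ[ℚ] Space.V) M.a₀) = 3 / 16
    · left
      exact orderOf_dvd_of_pow_eq_one (h2.1 hc)
    · right
      obtain ⟨n, hn, hx⟩ := h2.2 hc
      exact (orderOf_dvd_of_pow_eq_one hx).trans hn
  have hle : ∀ n : ℕ, centralizer ({t} : Set MG) ⊓ centralizer ({w} : Set MG) ≤ centralizer ({(w * t) ^ n} : Set MG) := by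
    intro n d hd
    have h1 := mem_centralizer_singleton_iff.1 hd.1
    have h2 := mem_centralizer_singleton_iff.1 hd.2
    rw [mem_centralizer_singleton_iff]
    have h3 : Commute d (w * t) := (show Commute d w from h2).mul_right (show Commute d t from h1)
    exact (h3.pow_right n).eq
  -- the prime
  obtain ⟨p, hp, hpd⟩ := Nat.exists_prime_and_dvd (n := orderOf (w * t)) (fun h => hb1 (orderOf_eq_one_iff.1 h))
  obtain ⟨n, hn⟩ := exists_pow hp hpd
  refine CG.of_pow (m := n) ?_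
  have hp3 : p = 2 ∨ p = 3 ∨ p = 5 := by
    rcases hord with h | h
    · right; right
      exact (Nat.prime_dvd_prime_iff_eq hp Nat.prime_five).1 (hpd.trans h)
    · have h1 : p ∣ 2 ^ 2 * 3 := hpd.trans (h.trans (by norm_num))
      rcases (hp.dvd_mul).1 h1 with h2 | h2
      · left
        exact (Nat.prime_dvd_prime_iff_eq hp Nat.prime_two).1 (hp.dvd_of_dvd_pow h2)
      · right; left
        exact (Nat.prime_dvd_prime_iff_eq hp Nat.prime_three).1 h2
  rcases hp3 with rfl | rfl | rfl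
  · exact cg_two B hn
  · have hcomm : t * w ≠ w * t := by
      intro h
      have h1 : (w * t) ^ 2 = 1 := by
        rw [pow_two]
        calc w * t * (w * t) = w * (t * w) * t := by group
          _ = w * (w * t) * t := by rw [h]
          _ = (w * w) * (t * t) := by group
          _ = 1 := by rw [hww, htt, one_mul]
      have h2 := hpd.trans (orderOf_dvd_of_pow_eq_one h1)
      norm_num at h2
    have h1 := (MonCent.cent_even B hw hcomm).trans (Subgroup.card_dvd_of_le (hle n))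
    obtain ⟨g, hg⟩ := LThreeM.FiRow.exists_z_of_even hn (by
      rw [Nat.not_odd_iff_even, even_iff_two_dvd]; exact h1)
    exact cg_odd B hg (by rw [hn]; exact Nat.prime_three) (by rw [hn]; norm_num)
  · have h1 := (MonCent.cent_four B hw hpd).trans (Subgroup.card_dvd_of_le (hle n))
    rcases CpAutBFive.EvenRow.cases hn with ⟨g, hg⟩ | h
    · exact cg_odd B hg (by rw [hn]; exact Nat.prime_five) (by rw [hn]; norm_num)
    · exact absurd h1 h

/-- **all elements** -/
theorem cg (B : Base) {x : MG} (hx : x ≠ 1) : CG 10 x := by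
  have hsim := BpSpor.MBigModel.simple
  have hcen := BpSpor.MBigModel.center_model
  have hto : orderOf t = 2 := H377.SporB.orderOf_t (IsConj.refl _)
  have ht1 : t ≠ 1 := by
    intro h
    rw [h, orderOf_one] at hto
    norm_num at hto
  obtain ⟨g, hg⟩ : ∃ g : MG, x * (g * t * g⁻¹) ≠ g * t * g⁻¹ * x := by
    by_contra hcon
    push Not at hcon
    obtain ⟨g, hg⟩ := exists_conj_not_mem ht1 (H := centralizer ({x} : Set MG)) (by
      intro h
      apply hx
      have h1 : x ∈ center MG := by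
        rw [Subgroup.mem_center_iff]
        intro y
        have h2 : y ∈ centralizer ({x} : Set MG) := by rw [h]; trivial
        exact mem_centralizer_singleton_iff.1 h2
      rw [hcen, Subgroup.mem_bot] at h1
      exact h1)
    exact hg (mem_centralizer_singleton_iff.2 (hcon g).symm)
  refine of_comm (k := 5) (t := g * t * g⁻¹) ?_
  have htt : t⁻¹ = t := by
    have h1 : t * t = 1 := by rw [← pow_two, ← hto, pow_orderOf_eq_one]
    exact inv_eq_of_mul_eq_one_left h1
  refine CG.of_conj g⁻¹ ?_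
  have h1 : g⁻¹ * (x * (g * t * g⁻¹) * x⁻¹ * (g * t * g⁻¹)⁻¹) * g⁻¹⁻¹ =
      (g⁻¹ * x * g) * t * (g⁻¹ * x * g)⁻¹ * t := by
    calc g⁻¹ * (x * (g * t * g⁻¹) * x⁻¹ * (g * t * g⁻¹)⁻¹) * g⁻¹⁻¹ =
        (g⁻¹ * x * g) * t * (g⁻¹ * x * g)⁻¹ * t⁻¹ := by group
      _ = _ := by rw [htt]
  rw [h1]
  refine cg_prod B (isConj_iff.2 ⟨_, rfl⟩) ?_
  intro h2
  apply hg
  calc x * (g * t * g⁻¹) = g * ((g⁻¹ * x * g) * t * (g⁻¹ * x * g)⁻¹) * g⁻¹ * x := by group
    _ = g * t * g⁻¹ * x := by rw [h2]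

theorem gen_MG (B : Base) : Gen11 MG := by
  refine gen11_of_inner BpSpor.MBigModel.center_model ?_ ?_
  · intro p hp x hx
    refine (cg B ?_).mono (by norm_num)
    rintro rfl
    rw [orderOf_one] at hx
    exact hp.ne_one hx.symm
  · intro α
    obtain ⟨g, hg⟩ := KFacts.MonsterE.inner_model Instance.mGroup Instance.mRep Instance.mLat InstanceFinal.mOrbit
      Instance.mTrans α
    exact ⟨g, hg.symm⟩

end Cfsg.Agent.H861.Gen.Mon

namespace Cfsg.Agent.H861.Gen

open Cfsg Cfsg.Agent.H147.Gen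

universe u

/-- **the Monster** -/
theorem gen_M {K : Type u} [Group K] (B : Cfsg.Agent.H940.Eng.Base) (h : Spor.IsoM K) : Gen11 K := by
  obtain ⟨e⟩ := h
  obtain ⟨f⟩ := MonsterP.Equiv.equiv
  exact (Mon.gen_MG B).congr (e.trans f).symm

end Cfsg.Agent.H861.Gen
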