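import Cfsg.Agent.H256.Sep.RowB

/-!
# The orders of the subgroups of the Baby Monster without four (helper861)

`bound` : a subgroup `D` of `B` with `4 ∤ |D|` has order less than 273030912000000, less than 85454638115666 if `|D|` is odd.
-/

set_option autoImplicit false
set_option maxRecDepth 100000

namespace Cfsg.Agent.H861.Gen.BabyNum

open Subgroup Cfsg.Agent.OrdDiv Cfsg.Agent.H940 Cfsg.Agent.H940.Eng Cfsg.Agent.H940.Eng.D
open Cfsg.Agent.H256.Sep.RowB (NC loc_weak ld19 ld23 ld31 ld47 loc19 loc23 loc31 loc47)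

abbrev G : Type := Cfsg.Spor.BabyMonster

theorem nc_seven {r : ℕ} (hr : r.Prime) (h2 : r ≠ 2) (hd : ¬ r ∣ 4030387200 * 7) : NC r 7 :=
  fun _ _ hx hy => H256.Sep.BabyM.ncomm_seven hr h2 hd hx hy

def ld11 : LD := ⟨11, 84791458800539310024032256000000,
  [(2, 42), (3, 13), (5, 7), (11, 1), (13, 1), (17, 1), (19, 1), (23, 1), (31, 1), (47, 1)]⟩
def ld13 : LD := ⟨13, 84791458800539310024032256000000,
  [(2, 43), (3, 14), (5, 6), (11, 1), (13, 1), (17, 1), (19, 1), (23, 1), (31, 1), (47, 1)]⟩

theorem loc11 : Loc G ld11 := by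
  refine loc_weak (by decide +kernel) (by decide +kernel) (by decide +kernel) [7] ?_ (by decide +kernel) (by decide +kernel)
  intro p hp
  rw [List.mem_singleton.1 hp]
  exact ⟨by norm_num, by norm_num, nc_seven (by norm_num) (by norm_num) (by norm_num)⟩

theorem loc13 : Loc G ld13 := by
  refine loc_weak (by decide +kernel) (by decide +kernel) (by decide +kernel) [7] ?_ (by decide +kernel) (by decide +kernel)
  intro p hp
  rw [List.mem_singleton.1 hp]
  exact ⟨by norm_num, by norm_num, nc_seven (by norm_num) (by norm_num) (by norm_num)⟩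

theorem four_dvd : ∀ s ∈ o_b, 4 ∣ s := by decide +kernel

/-- the exponents of the order of a subgroup without four -/
theorem val_le (B : Base) {ld : LD} (hl : Loc G ld) {D : Subgroup G} (h4 : ¬ 4 ∣ Nat.card D) (hr : ld.r ∣ Nat.card D)
    {p : ℕ} (v c d : ℕ) (hp : p.Prime) (hpr : p ≠ ld.r) (hv : ¬ p ^ (v + 1) ∣ Nat.card D)
    (hd : ¬ p ^ (d + 1) ∣ ld.N / ld.r) (hok : ∀ a < v + 1, c < a → okexp ld.r ld.C p a = false) :
    ¬ p ^ (c + d + 1) ∣ Nat.card D := by
  have := H256.Sep.RowB.fin
  obtain ⟨k, s, t, e1, e2, e3, -, -, -, e7, -, -⟩ := struct_sub v_b H256.Sep.RowB.card (ords_b B) hl hr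
  have hs : s = ld.r := by
    rcases List.mem_cons.1 e3 with h | h
    · exact h
    · exact absurd ((four_dvd s h).trans ⟨k * t, by rw [e1]; ring⟩) h4
  have hpos : 0 < Nat.card D := Nat.card_pos
  have htpos : t ≠ 0 := by rintro rfl; rw [mul_zero] at e1; exact hpos.ne' e1
  have hkpos : k ≠ 0 := by rintro rfl; rw [zero_mul, zero_mul] at e1; exact hpos.ne' e1
  have hrpos : ld.r ≠ 0 := hl.1.ne_zero
  have h1 : (Nat.card D).factorization p = k.factorization p + t.factorization p := by
    rw [e1, hs, Nat.factorization_mul (Nat.mul_ne_zero hkpos hrpos) htpos, Finsupp.add_apply,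
      Nat.factorization_mul hkpos hrpos, Finsupp.add_apply, hl.1.factorization, Finsupp.single_eq_of_ne hpr, add_zero]
  have h2 : t.factorization p ≤ d := by
    by_contra hlt
    push Not at hlt
    exact hd (((hp.pow_dvd_iff_le_factorization htpos).2 hlt).trans e2)
  have h3 : (Nat.card D).factorization p ≤ v := by
    by_contra hlt
    push Not at hlt
    exact hv ((hp.pow_dvd_iff_le_factorization hpos.ne').2 hlt)
  have h5 : k.factorization p ≤ c := by
    by_contra hlt
    push Not at hlt
    have h6 := hok _ (by omega) hlt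
    rw [e7 p hp] at h6
    exact absurd h6 (by decide)
  intro h
  have h6 := (hp.pow_dvd_iff_le_factorization hpos.ne').1 h
  omega

theorem cap0 (D : Subgroup G) : ∀ y ∈ l_b, ¬ y.1 ^ (y.2 + 1) ∣ Nat.card D := by
  have h : ∀ y ∈ l_b, ¬ y.1 ^ (y.2 + 1) ∣ n_b := by decide +kernel
  intro y hy hd
  refine h y hy (hd.trans ?_)
  rw [← H256.Sep.RowB.card]
  exact card_subgroup_dvd_card D

theorem caps (D : Subgroup G) (f : List (ℕ × ℕ))
    (hf : (l_b.all fun x => f.contains x || (f.any fun y => y.1 == x.1)) = true) (hfp : (f.all fun y => isPrimeB y.1) = true)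
    (h : ∀ y ∈ f, y ∈ l_b ∨ ¬ y.1 ^ (y.2 + 1) ∣ Nat.card D) : Nat.card D ≤ prodl f := by
  rw [List.all_eq_true] at hfp
  refine Nat.le_of_dvd (prodl_pos fun y hy => prime_of (hfp y hy)) (dvd_caps v_b ?_ hf (fun y hy => prime_of (hfp y hy)) ?_)
  · rw [← H256.Sep.RowB.card]
    exact card_subgroup_dvd_card D
  · intro y hy
    rcases h y hy with h | h
    · exact cap0 D y h
    · exact h

/-- **the bound** -/
theorem bound (B : Base) {D : Subgroup G} (h4 : ¬ 4 ∣ Nat.card D) :
    Nat.card D < 273030912000000 ∧ (¬ 2 ∣ Nat.card D → Nat.card D < 85454638115666) := by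
  have c3 := cap0 D (3, 13) (by decide)
  have c5 := cap0 D (5, 6) (by decide)
  have c7 := cap0 D (7, 2) (by decide)
  have c47 := cap0 D (47, 1) (by decide)
  have h2 : ¬ 2 ^ (1 + 1) ∣ Nat.card D := h4
  have fin : ∀ m : ℕ, m < 85454638115666 → Nat.card D ≤ m →
      Nat.card D < 273030912000000 ∧ (¬ 2 ∣ Nat.card D → Nat.card D < 85454638115666) :=
    fun m h h' => ⟨by omega, fun _ => by omega⟩
  by_cases h19 : 19 ∣ Nat.card D
  · have a3 := val_le B loc19 h4 h19 (p := 3) 13 0 2 (by norm_num) (by decide) c3 (by decide +kernel) (by decide +kernel)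
    have a5 := val_le B loc19 h4 h19 (p := 5) 6 0 0 (by norm_num) (by decide) c5 (by decide +kernel) (by decide +kernel)
    have a7 := val_le B loc19 h4 h19 (p := 7) 2 0 0 (by norm_num) (by decide) c7 (by decide +kernel) (by decide +kernel)
    refine fin _ ?_ (caps D [(2, 1), (3, 2), (5, 0), (7, 0), (11, 1), (13, 1), (17, 1), (19, 1), (23, 1), (31, 1), (47, 1)]
      (by decide +kernel) (by decide +kernel) ?_)
    · decide +kernel
    · simp only [List.mem_cons, List.not_mem_nil, or_false]
      rintro y (rfl | rfl | rfl | rfl | rfl | rfl | rfl | rfl | rfl | rfl | rfl) <;>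
        first | exact Or.inl (by decide) | exact Or.inr h2 | exact Or.inr a3 | exact Or.inr a5 | exact Or.inr a7
  by_cases h23 : 23 ∣ Nat.card D
  · have a3 := val_le B loc23 h4 h23 (p := 3) 13 11 0 (by norm_num) (by decide) c3 (by decide +kernel) (by decide +kernel)
    have a5 := val_le B loc23 h4 h23 (p := 5) 6 0 0 (by norm_num) (by decide) c5 (by decide +kernel) (by decide +kernel)
    have a7 := val_le B loc23 h4 h23 (p := 7) 2 0 0 (by norm_num) (by decide) c7 (by decide +kernel) (by decide +kernel)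
    have a19 : ¬ 19 ^ (0 + 1) ∣ Nat.card D := h19
    refine fin _ ?_ (caps D [(2, 1), (3, 11), (5, 0), (7, 0), (11, 1), (13, 1), (17, 1), (19, 0), (23, 1), (31, 1), (47, 1)]
      (by decide +kernel) (by decide +kernel) ?_)
    · decide +kernel
    · simp only [List.mem_cons, List.not_mem_nil, or_false]
      rintro y (rfl | rfl | rfl | rfl | rfl | rfl | rfl | rfl | rfl | rfl | rfl) <;>
        first | exact Or.inl (by decide) | exact Or.inr h2 | exact Or.inr a3 | exact Or.inr a5 | exact Or.inr a7 |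
          exact Or.inr a19
  by_cases h31 : 31 ∣ Nat.card D
  · have a3 := val_le B loc31 h4 h31 (p := 3) 13 0 1 (by norm_num) (by decide) c3 (by decide +kernel) (by decide +kernel)
    have a7 := val_le B loc31 h4 h31 (p := 7) 2 0 0 (by norm_num) (by decide) c7 (by decide +kernel) (by decide +kernel)
    have a19 : ¬ 19 ^ (0 + 1) ∣ Nat.card D := h19
    have a23 : ¬ 23 ^ (0 + 1) ∣ Nat.card D := h23
    refine fin _ ?_ (caps D [(2, 1), (3, 1), (5, 6), (7, 0), (11, 1), (13, 1), (17, 1), (19, 0), (23, 0), (31, 1), (47, 1)]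
      (by decide +kernel) (by decide +kernel) ?_)
    · decide +kernel
    · simp only [List.mem_cons, List.not_mem_nil, or_false]
      rintro y (rfl | rfl | rfl | rfl | rfl | rfl | rfl | rfl | rfl | rfl | rfl) <;>
        first | exact Or.inl (by decide) | exact Or.inr h2 | exact Or.inr a3 | exact Or.inr a7 |
          exact Or.inr a19 | exact Or.inr a23
  have a19 : ¬ 19 ^ (0 + 1) ∣ Nat.card D := h19
  have a23 : ¬ 23 ^ (0 + 1) ∣ Nat.card D := h23
  have a31 : ¬ 31 ^ (0 + 1) ∣ Nat.card D := h31
  by_cases h47 : 47 ∣ Nat.card D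
  · have a3 := val_le B loc47 h4 h47 (p := 3) 13 0 0 (by norm_num) (by decide) c3 (by decide +kernel) (by decide +kernel)
    have a5 := val_le B loc47 h4 h47 (p := 5) 6 0 0 (by norm_num) (by decide) c5 (by decide +kernel) (by decide +kernel)
    have a7 := val_le B loc47 h4 h47 (p := 7) 2 0 0 (by norm_num) (by decide) c7 (by decide +kernel) (by decide +kernel)
    refine fin _ ?_ (caps D [(2, 1), (3, 0), (5, 0), (7, 0), (11, 1), (13, 1), (17, 1), (19, 0), (23, 0), (31, 0), (47, 1)]
      (by decide +kernel) (by decide +kernel) ?_)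
    · decide +kernel
    · simp only [List.mem_cons, List.not_mem_nil, or_false]
      rintro y (rfl | rfl | rfl | rfl | rfl | rfl | rfl | rfl | rfl | rfl | rfl) <;>
        first | exact Or.inl (by decide) | exact Or.inr h2 | exact Or.inr a3 | exact Or.inr a5 | exact Or.inr a7 |
          exact Or.inr a19 | exact Or.inr a23 | exact Or.inr a31
  have a47 : ¬ 47 ^ (0 + 1) ∣ Nat.card D := h47
  by_cases h7 : 7 ∣ Nat.card D
  · have a11 : ¬ 11 ^ (0 + 1) ∣ Nat.card D := fun h => val_le B loc11 h4 h (p := 7) 2 0 0 (by norm_num) (by decide) c7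
      (by decide +kernel) (by decide +kernel) h7
    have a13 : ¬ 13 ^ (0 + 1) ∣ Nat.card D := fun h => val_le B loc13 h4 h (p := 7) 2 0 0 (by norm_num) (by decide) c7
      (by decide +kernel) (by decide +kernel) h7
    refine fin _ ?_ (caps D [(2, 1), (3, 13), (5, 6), (7, 2), (11, 0), (13, 0), (17, 1), (19, 0), (23, 0), (31, 0), (47, 0)]
      (by decide +kernel) (by decide +kernel) ?_)
    · decide +kernel
    · simp only [List.mem_cons, List.not_mem_nil, or_false]
      rintro y (rfl | rfl | rfl | rfl | rfl | rfl | rfl | rfl | rfl | rfl | rfl) <;>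
        first | exact Or.inl (by decide) | exact Or.inr h2 | exact Or.inr a11 | exact Or.inr a13 |
          exact Or.inr a19 | exact Or.inr a23 | exact Or.inr a31 | exact Or.inr a47
  have a7 : ¬ 7 ^ (0 + 1) ∣ Nat.card D := h7
  have key : ∀ e : ℕ, (e = 0 ∨ e = 1) → ¬ 2 ^ (e + 1) ∣ Nat.card D → Nat.card D ≤ prodl [(2, e), (3, 13), (5, 6), (7, 0), (11, 1), (13, 1),
      (17, 1), (19, 0), (23, 0), (31, 0), (47, 0)] := by
    intro e he1 he
    refine caps D _ (by rcases he1 with rfl | rfl <;> decide +kernel) (by rcases he1 with rfl | rfl <;> decide +kernel) ?_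
    · simp only [List.mem_cons, List.not_mem_nil, or_false]
      rintro y (rfl | rfl | rfl | rfl | rfl | rfl | rfl | rfl | rfl | rfl | rfl) <;>
        first | exact Or.inl (by decide) | exact Or.inr he | exact Or.inr a7 |
          exact Or.inr a19 | exact Or.inr a23 | exact Or.inr a31 | exact Or.inr a47
  refine ⟨(key 1 (Or.inr rfl) h2).trans_lt (by decide +kernel),
    fun h => (key 0 (Or.inl rfl) h).trans_lt (by decide +kernel)⟩

end Cfsg.Agent.H861.Gen.BabyNum
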