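import Cfsg.Agent.LThreeCo1.Ev
import Cfsg.Agent.SporadicA.Co0Mono

/-!
# Fast evaluation of words in `Co0` by packed arithmetic (helper861)

A vector `u : GolayPt → ℤ` is coded by the natural number `E u = ∑ (u_i + 2 ^ 159) * (2 ^ 160) ^ i`; a matrix is applied by 24
multiplications of big numbers.  `relP`, `neP` : a word is `± 1`, is not `± 1`.
-/

set_option autoImplicit false

namespace Cfsg.Agent.H861.Gen.CoEv

open Cfsg Finset Cfsg.Agent.SporadicA Cfsg.Agent.SporadicStructure.Co0Matrix Cfsg.Agent.CoOneType.CoEval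

/-- the base -/
def BB : ℕ := 2 ^ 160
/-- the offset -/
def HH : ℕ := 2 ^ 159
/-- the modulus -/
def TT : ℕ := 8 * BB ^ 24

theorem BB_pos : 0 < BB := by decide +kernel
theorem two_HH : 2 * HH = BB := by decide +kernel

/-- the digits -/
def dl (u : GolayPt → ℤ) : List ℕ := (List.range 24).map fun i => (u (GolayBase.pt i) + HH).toNat

/-- the code of a vector -/
def E (u : GolayPt → ℤ) : ℕ := Nat.ofDigits BB (dl u)

/-- the coordinates are small -/
def Sm (u : GolayPt → ℤ) : Prop := ∀ p, |u p| < HH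

theorem Sm.bd {u : GolayPt → ℤ} (h : Sm u) (p : GolayPt) : 0 < u p + HH ∧ u p + HH < BB := by
  have h1 := abs_lt.1 (h p)
  have h2 : (2 : ℤ) * HH = BB := by exact_mod_cast two_HH
  constructor <;> linarith [h1.1, h1.2]

theorem Sm.lt {u : GolayPt → ℤ} (h : Sm u) : ∀ d ∈ dl u, d < BB := by
  intro d hd
  obtain ⟨i, -, rfl⟩ := List.mem_map.1 hd
  have h1 := h.bd (GolayBase.pt i)
  have h2 : (((u (GolayBase.pt i) + HH).toNat : ℕ) : ℤ) = u (GolayBase.pt i) + HH := Int.toNat_of_nonneg h1.1.le
  have h3 : (((u (GolayBase.pt i) + HH).toNat : ℕ) : ℤ) < BB := by rw [h2]; exact h1.2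
  exact_mod_cast h3

theorem sum_range_map (f : ℕ → ℕ) (n : ℕ) : ((List.range n).map f).sum = ∑ i ∈ range n, f i := by
  induction n with
  | zero => rfl
  | succ n ih => rw [List.range_succ, List.map_append, List.sum_append, ih, sum_range_succ]; simp

theorem ofDigits_range (b : ℕ) (f : ℕ → ℕ) (n : ℕ) :
    Nat.ofDigits b ((List.range n).map f) = ∑ i ∈ range n, f i * b ^ i := by
  induction n with
  | zero => rfl
  | succ n ih =>
    rw [List.range_succ, List.map_append, Nat.ofDigits_append, ih, sum_range_succ, List.length_map, List.length_range]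
    simp [mul_comm]

theorem E_pos {u : GolayPt → ℤ} (h : Sm u) : E u ≠ 0 := by
  intro h0
  unfold E dl at h0
  rw [ofDigits_range, sum_eq_zero_iff] at h0
  have h1 := h0 0 (mem_range.2 (by norm_num))
  rw [pow_zero, mul_one] at h1
  have h2 := (h.bd (GolayBase.pt 0)).1
  have h3 := Int.toNat_of_nonneg h2.le
  rw [h1] at h3
  rw [← h3] at h2
  norm_num at h2

theorem E_inj {u v : GolayPt → ℤ} (hu : Sm u) (hv : Sm v) (h : E u = E v) : u = v := by
  have h1 : dl u = dl v := by
    refine Nat.ofDigits_inj_of_len_eq (b := BB) (by decide +kernel) ?_ hu.lt hv.lt h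
    rw [dl, dl, List.length_map, List.length_map]
  funext p
  have h2 : GolayBase.idx p < 24 := GolayBase.idx_lt p
  have h3 := congrArg (fun l : List ℕ => l.getD (GolayBase.idx p) 0) h1
  simp only [dl] at h3
  rw [List.getD_eq_getElem _ _ (by simpa using h2), List.getD_eq_getElem _ _ (by simpa using h2), List.getElem_map,
    List.getElem_map, List.getElem_range, GolayBase.pt_idx] at h3
  have h4 := Int.toNat_of_nonneg (hu.bd p).1.le
  have h5 := Int.toNat_of_nonneg (hv.bd p).1.le
  rw [h3, h5] at h4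
  linarith

/-! ### one step -/

/-- multiply the digits of `X` by the numbers in the list and add -/
def go : List ℕ → ℕ → ℕ → ℕ
  | [], _, acc => acc
  | c :: cs, X, acc => go cs (X / BB) (acc + X % BB * c)

theorem go_eq : ∀ (cs ds : List ℕ) (acc : ℕ), (∀ d ∈ ds, d < BB) → cs.length ≤ ds.length →
    go cs (Nat.ofDigits BB ds) acc = acc + (List.zipWith (fun d c => d * c) ds cs).sum
  | [], ds, acc, _, _ => by cases ds <;> simp [go]
  | c :: cs, [], acc, _, h => absurd h (by simp)
  | c :: cs, d :: ds, acc, hd, h => by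
    have h1 : Nat.ofDigits BB (d :: ds) = d + BB * Nat.ofDigits BB ds := by simp [Nat.ofDigits_cons]
    have h2 : d < BB := hd d List.mem_cons_self
    have h3 : (d + BB * Nat.ofDigits BB ds) % BB = d := by rw [Nat.add_mul_mod_self_left, Nat.mod_eq_of_lt h2]
    have h4 : (d + BB * Nat.ofDigits BB ds) / BB = Nat.ofDigits BB ds := by
      rw [Nat.add_mul_div_left _ _ BB_pos, Nat.div_eq_of_lt h2, zero_add]
    rw [go, h1, h3, h4, go_eq cs ds _ (fun x hx => hd x (List.mem_cons_of_mem _ hx)) (by simpa using h),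
      List.zipWith_cons_cons, List.sum_cons, add_assoc]

/-- the code of the `j`-th column -/
def colZ (R : List (List ℤ)) (j : ℕ) : ℤ := R.foldr (fun r a => r.getD j 0 + BB * a) 0

theorem colZ_eq (R : List (List ℤ)) (j : ℕ) :
    colZ R j = ∑ i ∈ range R.length, (R.getD i []).getD j 0 * (BB : ℤ) ^ i := by
  induction R with
  | nil => rfl
  | cons r R ih =>
    have h : colZ (r :: R) j = r.getD j 0 + BB * colZ R j := rfl
    rw [h, ih, List.length_cons, sum_range_succ', mul_sum, add_comm]
    congr 1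
    · refine sum_congr rfl fun i _ => ?_
      rw [List.getD_cons_succ, pow_succ]
      ring
    · rw [List.getD_cons_zero, pow_zero, mul_one]

/-- the columns -/
def colsN (R : List (List ℤ)) : List ℕ := (List.range 24).map fun j => (colZ R j % TT).toNat

/-- the constant -/
def kZ (R : List (List ℤ)) : ℤ := (8 * HH) * ((List.range 24).map fun i => (BB : ℤ) ^ i).sum -
  HH * ((List.range 24).map fun j => colZ R j).sum

/-- the matrix applied to the coded vector -/
def step (R : List (List ℤ)) (X : ℕ) : ℕ := go (colsN R) X (kZ R % TT).toNat % TT / 8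

theorem sum_range_mapZ (f : ℕ → ℤ) (n : ℕ) : ((List.range n).map f).sum = ∑ i ∈ range n, f i := by
  induction n with
  | zero => rfl
  | succ n ih => rw [List.range_succ, List.map_append, List.sum_append, ih, sum_range_succ]; simp

theorem toNat_emod (a : ℤ) : (((a % TT).toNat : ℕ) : ℤ) = a % TT := by
  apply Int.toNat_of_nonneg
  apply Int.emod_nonneg
  have : TT ≠ 0 := by decide +kernel
  exact_mod_cast this

theorem toNat_modEq (a : ℤ) : (((a % TT).toNat : ℕ) : ℤ) ≡ a [ZMOD TT] := by
  rw [toNat_emod]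
  exact Int.mod_modEq _ _

/-- the code is below the modulus -/
theorem E_lt {u : GolayPt → ℤ} (h : Sm u) : E u < BB ^ 24 := by
  have h1 := Nat.ofDigits_lt_base_pow_length (b := BB) (l := dl u) (by decide +kernel) h.lt
  rwa [dl, List.length_map, List.length_range] at h1

theorem step_spec {g : Co0} {R : List (List ℤ)} (hR : Rep g R) {u : leechLattice} (hu : Sm (u : GolayPt → ℤ))
    (hgu : Sm ((g.1 u : leechLattice) : GolayPt → ℤ)) :
    step R (E (u : GolayPt → ℤ)) = E ((g.1 u : leechLattice) : GolayPt → ℤ) := by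
  set v : GolayPt → ℤ := (u : GolayPt → ℤ) with hv
  set w : GolayPt → ℤ := ((g.1 u : leechLattice) : GolayPt → ℤ) with hw
  have hact : ∀ i ∈ range 24, ∑ j ∈ range 24, v (GolayBase.pt j) * (R.getD i []).getD j 0 = 8 * w (GolayBase.pt i) := by
    intro i hi
    have hi' := mem_range.1 hi
    have h1 : w (GolayBase.pt i) = dotInt v (row R (GolayBase.pt i)) / 8 := by
      rw [hw, hR.act u]
      rfl
    have h2 : (8 : ℤ) ∣ dotInt v (row R (GolayBase.pt i)) := by
      -- exactness: `dotInt (8 u) = 8 * ...` by the adjoint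
      have h3 := hR.act ((8 : ℤ) • u)
      have h4 : ((g.1 ((8 : ℤ) • u) : leechLattice) : GolayPt → ℤ) (GolayBase.pt i) = 8 * w (GolayBase.pt i) := by
        have h5 := Co0Mono.smul_zsmul g 8 u
        have h6 : g.1 ((8 : ℤ) • u) = (8 : ℤ) • g.1 u := h5
        rw [h6]
        simp only [AddSubgroup.coe_zsmul, Pi.smul_apply, smul_eq_mul, hw]
      have h5 : act R (((8 : ℤ) • u : leechLattice) : GolayPt → ℤ) (GolayBase.pt i) =
          dotInt v (row R (GolayBase.pt i)) := by
        have h7 : dotInt (((8 : ℤ) • u : leechLattice) : GolayPt → ℤ) (row R (GolayBase.pt i)) =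
            8 * dotInt v (row R (GolayBase.pt i)) := by
          unfold dotInt
          rw [mul_sum]
          refine sum_congr rfl fun j _ => ?_
          simp only [AddSubgroup.coe_zsmul, Pi.smul_apply, smul_eq_mul, hv]
          ring
        show dotInt (((8 : ℤ) • u : leechLattice) : GolayPt → ℤ) (row R (GolayBase.pt i)) / 8 = _
        rw [h7, Int.mul_ediv_cancel_left _ (by norm_num)]
      rw [← h5, ← h3, h4]
      exact ⟨_, rfl⟩
    have h3 : dotInt v (row R (GolayBase.pt i)) = 8 * w (GolayBase.pt i) := by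
      rw [h1, Int.mul_ediv_cancel' h2]
    rw [← h3]
    unfold dotInt
    rw [GolayBase.sum_pt]
    refine sum_congr rfl fun j hj => ?_
    rw [row, vec_apply, GolayBase.idx_pt hi', GolayBase.idx_pt (mem_range.1 hj)]
  -- the digits
  have hdv : ∀ i : ℕ, (((v (GolayBase.pt i) + HH).toNat : ℕ) : ℤ) = v (GolayBase.pt i) + HH :=
    fun i => Int.toNat_of_nonneg (hu.bd _).1.le
  have hdw : ∀ i : ℕ, (((w (GolayBase.pt i) + HH).toNat : ℕ) : ℤ) = w (GolayBase.pt i) + HH :=
    fun i => Int.toNat_of_nonneg (hgu.bd _).1.le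
  have h1 : go (colsN R) (E v) (kZ R % TT).toNat = (kZ R % TT).toNat +
      ∑ j ∈ range 24, (v (GolayBase.pt j) + HH).toNat * (colZ R j % TT).toNat := by
    rw [E, go_eq _ _ _ hu.lt (by rw [colsN, dl, List.length_map, List.length_map]), dl, colsN, List.zipWith_map,
      List.zipWith_self, sum_range_map]
  have hlen : R.length = 24 := hR.len
  have h2 : ((go (colsN R) (E v) (kZ R % TT).toNat : ℕ) : ℤ) ≡ 8 * ((E w : ℕ) : ℤ) [ZMOD TT] := by
    rw [h1]
    push_cast
    have h3 : (((kZ R % TT).toNat : ℕ) : ℤ) + ∑ j ∈ range 24, (((v (GolayBase.pt j) + HH).toNat : ℕ) : ℤ) *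
        (((colZ R j % TT).toNat : ℕ) : ℤ) ≡ kZ R + ∑ j ∈ range 24, (v (GolayBase.pt j) + HH) * colZ R j [ZMOD TT] := by
      refine (toNat_modEq _).add ?_
      have h4 : ∀ s : Finset ℕ, (∑ j ∈ s, (((v (GolayBase.pt j) + HH).toNat : ℕ) : ℤ) *
          (((colZ R j % TT).toNat : ℕ) : ℤ)) ≡ ∑ j ∈ s, (v (GolayBase.pt j) + HH) * colZ R j [ZMOD TT] := by
        intro s
        induction s using Finset.induction_on with
        | empty => rfl
        | insert a s ha ih =>
          rw [sum_insert ha, sum_insert ha, hdv]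
          exact ((Int.ModEq.refl _).mul (toNat_modEq _)).add ih
      exact h4 _
    have h4 : kZ R + ∑ j ∈ range 24, (v (GolayBase.pt j) + HH) * colZ R j = 8 * ((E w : ℕ) : ℤ) := by
      rw [kZ, sum_range_mapZ, sum_range_mapZ]
      have h5 : ((E w : ℕ) : ℤ) = ∑ i ∈ range 24, (w (GolayBase.pt i) + HH) * (BB : ℤ) ^ i := by
        rw [E, dl, ofDigits_range]
        push_cast
        exact sum_congr rfl fun i _ => by rw [hdw i]
      have h6 : ∑ j ∈ range 24, v (GolayBase.pt j) * colZ R j =
          ∑ i ∈ range 24, 8 * w (GolayBase.pt i) * (BB : ℤ) ^ i := by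
        have h7 : ∀ j ∈ range 24, v (GolayBase.pt j) * colZ R j =
            ∑ i ∈ range 24, v (GolayBase.pt j) * (R.getD i []).getD j 0 * (BB : ℤ) ^ i := by
          intro j _
          rw [colZ_eq, hlen, mul_sum]
          exact sum_congr rfl fun i _ => by ring
        rw [sum_congr rfl h7, sum_comm]
        refine sum_congr rfl fun i hi => ?_
        rw [← sum_mul, hact i hi]
      rw [h5]
      have h8 : ∑ j ∈ range 24, (v (GolayBase.pt j) + HH) * colZ R j =
          ∑ j ∈ range 24, v (GolayBase.pt j) * colZ R j + HH * ∑ j ∈ range 24, colZ R j := by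
        rw [mul_sum, ← sum_add_distrib]
        exact sum_congr rfl fun j _ => by ring
      rw [h8, h6]
      have h9 : 8 * ∑ i ∈ range 24, (w (GolayBase.pt i) + HH) * (BB : ℤ) ^ i =
          ∑ i ∈ range 24, 8 * w (GolayBase.pt i) * (BB : ℤ) ^ i + 8 * HH * ∑ i ∈ range 24, (BB : ℤ) ^ i := by
        rw [mul_sum, mul_sum, ← sum_add_distrib]
        exact sum_congr rfl fun i _ => by ring
      rw [h9]
      ring
    rw [← h4]
    exact h3
  have h3 : go (colsN R) (E v) (kZ R % TT).toNat % TT = 8 * E w := by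
    have h4 : go (colsN R) (E v) (kZ R % TT).toNat ≡ 8 * E w [MOD TT] := by
      rw [← Int.natCast_modEq_iff]
      push_cast
      exact h2
    have h5 : 8 * E w < TT := by
      unfold TT
      have := E_lt hgu
      omega
    rw [h4, Nat.mod_eq_of_lt h5]
  show go (colsN R) (E v) (kZ R % TT).toNat % TT / 8 = E w
  rw [h3, Nat.mul_div_cancel_left _ (by norm_num)]

/-! ### words -/

/-- apply the letters from left to right -/
def run (M : ℕ → List (List ℤ)) : List ℕ → ℕ → ℕ
  | [], X => X
  | i :: w, X =>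
    match step (M i) X with
    | 0 => 0
    | n + 1 => run M w (n + 1)

/-- iterate a word -/
def itr (M : ℕ → List (List ℤ)) (w : List ℕ) : ℕ → ℕ → ℕ
  | 0, X => X
  | n + 1, X =>
    match run M w X with
    | 0 => 0
    | k + 1 => itr M w n (k + 1)

/-- value of a word (the first letter acts first) -/
def G (e : ℕ → Co0) : List ℕ → Co0
  | [] => 1
  | i :: w => G e w * e i

theorem G_append (e : ℕ → Co0) (u v : List ℕ) : G e (u ++ v) = G e v * G e u := by
  induction u with
  | nil => rw [List.nil_append, G, mul_one]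
  | cons i u ih => rw [List.cons_append, G, G, ih, mul_assoc]

section spec

variable {e : ℕ → Co0} {M : ℕ → List (List ℤ)}

/-- all images of the vector are small -/
def SmO (u : leechLattice) : Prop := ∀ g : Co0, Sm ((g.1 u : leechLattice) : GolayPt → ℤ)

theorem SmO.smul {u : leechLattice} (h : SmO u) (g : Co0) : SmO (g.1 u) := fun k => h (k * g)

theorem smO_of_norm {u : leechLattice} (h : sqNorm (u : GolayPt → ℤ) < HH ^ 2) : SmO u := by
  intro g p
  have h1 := Co0Basic.map_sqNorm g u
  have h2 : ((g.1 u : leechLattice) : GolayPt → ℤ) p ^ 2 ≤ sqNorm ((g.1 u : leechLattice) : GolayPt → ℤ) :=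
    Finset.single_le_sum (f := fun i => ((g.1 u : leechLattice) : GolayPt → ℤ) i ^ 2) (fun i _ => sq_nonneg _) (mem_univ p)
  have h3 : (0 : ℤ) ≤ HH := by exact_mod_cast Nat.zero_le _
  exact abs_lt_of_sq_lt_sq (lt_of_le_of_lt (h2.trans h1.le) h) h3

theorem run_spec (hM : ∀ i, Rep (e i) (M i)) : ∀ (w : List ℕ) {u : leechLattice}, SmO u →
    run M w (E (u : GolayPt → ℤ)) = E (((G e w).1 u : leechLattice) : GolayPt → ℤ)
  | [], u, _ => rfl
  | i :: w, u, hu => by
    have h1 := step_spec (hM i) (hu 1) (hu (e i))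
    have h2 := run_spec hM w (hu.smul (e i))
    have h3 := E_pos (hu (e i))
    have h4 : run M (i :: w) (E (u : GolayPt → ℤ)) =
        (match step (M i) (E (u : GolayPt → ℤ)) with
          | 0 => 0
          | n + 1 => run M w (n + 1)) := rfl
    rw [h4]
    have h5 : step (M i) (E (u : GolayPt → ℤ)) = E (((e i).1 u : leechLattice) : GolayPt → ℤ) := h1
    rw [h5]
    obtain ⟨n, hn⟩ := Nat.exists_eq_succ_of_ne_zero h3
    rw [hn]
    show run M w (n + 1) = _
    rw [← Nat.succ_eq_add_one, ← hn, h2]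
    rfl

theorem itr_spec (hM : ∀ i, Rep (e i) (M i)) (w : List ℕ) : ∀ (n : ℕ) {u : leechLattice}, SmO u →
    itr M w n (E (u : GolayPt → ℤ)) = E ((((G e w) ^ n).1 u : leechLattice) : GolayPt → ℤ)
  | 0, u, _ => rfl
  | n + 1, u, hu => by
    have h1 := run_spec hM w hu
    have h2 := itr_spec hM w n (hu.smul (G e w))
    have h3 := E_pos (hu (G e w))
    have h4 : itr M w (n + 1) (E (u : GolayPt → ℤ)) =
        (match run M w (E (u : GolayPt → ℤ)) with
          | 0 => 0
          | k + 1 => itr M w n (k + 1)) := rfl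
    rw [h4, h1]
    obtain ⟨k, hk⟩ := Nat.exists_eq_succ_of_ne_zero h3
    rw [hk]
    show itr M w n (k + 1) = _
    rw [← Nat.succ_eq_add_one, ← hk, h2, pow_succ]
    rfl

/-- the code of the vector with trivial stabilizer -/
def Eb : ℕ := Nat.ofDigits BB ((List.range 24).map fun i => 8 * 64 ^ i + HH)
/-- the code of its negative -/
def En : ℕ := Nat.ofDigits BB ((List.range 24).map fun i => HH - 8 * 64 ^ i)

theorem dl_vec (f : ℕ → ℤ) : dl (vec ((List.range 24).map f)) = (List.range 24).map fun i => (f i + HH).toNat := by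
  unfold dl
  refine List.map_congr_left fun i hi => ?_
  rw [getD_range_map, GolayBase.idx_pt (List.mem_range.1 hi)]

theorem E_beta : E (vec betaL) = Eb := by
  unfold E Eb
  rw [betaL, dl_vec]
  congr 1

theorem E_negbeta : E (vec negbetaL) = En := by
  unfold E En
  rw [negbetaL, dl_vec]
  congr 1

theorem norm_beta : sqNorm (vec betaL) < (HH : ℤ) ^ 2 := by
  have h1 : sqNorm (vec betaL) = dotL betaL betaL := by
    rw [← dotInt_vec betaL betaL (by decide)]
    unfold sqNorm dotInt
    exact sum_congr rfl fun i _ => by ring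
  rw [h1]
  decide +kernel

theorem smO_beta : SmO beta := smO_of_norm norm_beta

/-- the value of the word is `± 1` -/
def relP (M : ℕ → List (List ℤ)) (w : List ℕ) (n : ℕ) : Bool :=
  Nat.beq (itr M w n Eb) Eb || Nat.beq (itr M w n Eb) En

/-- the value of the word is not `± 1` -/
def neP (M : ℕ → List (List ℤ)) (w : List ℕ) (n : ℕ) : Bool :=
  !(Nat.beq (itr M w n Eb) Eb) && !(Nat.beq (itr M w n Eb) En)

/-- value of a word in `Co1` -/
noncomputable abbrev V (e : ℕ → Co0) (w : List ℕ) : Spor.Co1 := pr (G e w)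

theorem V_append (u v : List ℕ) : V e (u ++ v) = V e v * V e u := by
  show pr (G e (u ++ v)) = pr (G e v) * pr (G e u)
  rw [G_append, pr, map_mul]

theorem itr_beta (hM : ∀ i, Rep (e i) (M i)) (w : List ℕ) (n : ℕ) :
    itr M w n Eb = E ((((G e w) ^ n).1 beta : leechLattice) : GolayPt → ℤ) := by
  have h := itr_spec hM w n smO_beta
  rwa [beta_coe, E_beta] at h

theorem pow_eq_one_of_relP (hM : ∀ i, Rep (e i) (M i)) {w : List ℕ} {n : ℕ} (h : relP M w n = true) : V e w ^ n = 1 := by
  unfold relP at h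
  have hb : Sm (vec betaL) := smO_beta 1
  have hs : ∀ g : Co0, Sm ((g.1 beta : leechLattice) : GolayPt → ℤ) := smO_beta
  have hV : V e w ^ n = pr ((G e w) ^ n) := (map_pow (QuotientGroup.mk' (Subgroup.center Co0)) _ _).symm
  rw [hV]
  rcases (Bool.or_eq_true _ _ ▸ h : (_ = true) ∨ (_ = true)) with h' | h'
  · have h1 := Nat.eq_of_beq_eq_true h'
    rw [itr_beta hM, ← E_beta] at h1
    have h2 := E_inj (hs _) hb h1
    rw [eq_one_of_fix (Subtype.ext h2)]
    exact map_one _
  · have h1 := Nat.eq_of_beq_eq_true h'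
    rw [itr_beta hM, ← E_negbeta] at h1
    have hnb : Sm (vec negbetaL) := by
      rw [vec_negbetaL]
      intro p
      rw [Pi.neg_apply, abs_neg]
      exact hb p
    have h2 := E_inj (hs _) hnb h1
    have h3 : (G e w) ^ n = Co0Basic.negCo0 := by
      apply eq_of_fix
      apply Subtype.ext
      rw [h2, Co0Basic.negCo0_apply, vec_negbetaL]
      rfl
    rw [h3]
    exact pr_neg

theorem pow_ne_one_of_neP (hM : ∀ i, Rep (e i) (M i)) {w : List ℕ} {n : ℕ} (h : neP M w n = true) : V e w ^ n ≠ 1 := by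
  unfold neP at h
  rw [Bool.and_eq_true, Bool.not_eq_true', Bool.not_eq_true'] at h
  have hV : V e w ^ n = pr ((G e w) ^ n) := (map_pow (QuotientGroup.mk' (Subgroup.center Co0)) _ _).symm
  rw [hV]
  intro h1
  have h2 : (G e w) ^ n ∈ Subgroup.center Co0 := (QuotientGroup.eq_one_iff _).mp h1
  rcases Co0Basic.eq_one_or_neg_of_mem_center h2 with h4 | h4
  · have h5 := itr_beta hM w n
    rw [h4] at h5
    have h6 : itr M w n Eb = Eb := by rw [h5]; exact E_beta
    rw [h6] at h
    exact absurd h.1 (by rw [Nat.beq_refl]; decide)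
  · have h5 := itr_beta hM w n
    rw [h4, Co0Basic.negCo0_apply] at h5
    have h6 : itr M w n Eb = En := by rw [h5, ← E_negbeta, vec_negbetaL]; rfl
    rw [h6] at h
    exact absurd h.2 (by rw [Nat.beq_refl]; decide)

end spec

end Cfsg.Agent.H861.Gen.CoEv
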