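import Cfsg.Agent.H861.Gen.Lift
import Cfsg.Agent.H861.Gen.CoEv
import Cfsg.Agent.H147.Fpr.CoOne
import Cfsg.Agent.LThreeCo1.Ranks
import Cfsg.Agent.CoFive.Ranks
import Cfsg.Agent.CpAutMSeven.RanksH
import Cfsg.Agent.BpSevenCo.Conj
import Cfsg.Agent.H867.CoInv

/-!
# Every element of prime order of `Co1`: three conjugates generate (helper861, S4327)

For every class of elements `c` of prime order an element `y` of order three with `⟨c, y⟩ = Co1` (words of order `23` and
`13 k`, checked on matrices; engine of helper940).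
-/

set_option autoImplicit false
set_option maxRecDepth 100000

namespace Cfsg.Agent.H861.Gen.CoOne

open Cfsg Subgroup Cfsg.Agent.SporadicA Cfsg.Agent.SporadicStructure.Co0Matrix Cfsg.Agent.CoOneType.CoEval
open Cfsg.Agent.LThreeCo1.Ev Cfsg.Agent.H861.Gen.CoEv Cfsg.Agent.H147.Gen Cfsg.Agent.H940 Cfsg.Agent.H940.Eng Cfsg.Agent.H147.Fpr
open Cfsg.Spor (Co1)
open Cfsg.Agent.Co2Type.Mono (cd coe_cd)

/-! ### representing matrices -/

/-- an element of `Co0` is represented by a matrix if the columns are right -/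
theorem rep_of_e8 {g : Co0} {R : List (List ℤ)} (hl : R.length = 24)
    (h : ∀ i p : GolayPt, ((g.1 (Co0Basic.e8 i) : leechLattice) : GolayPt → ℤ) p = row R p i) : Rep g R := by
  refine ⟨hl, fun v => ?_⟩
  funext p
  have h1 := congrArg (fun u : leechLattice => (u : GolayPt → ℤ) p) (Co0Basic.map_smul8 g v)
  simp only [AddSubgroup.coe_zsmul, AddSubgroup.val_finsetSum, Finset.sum_apply, Pi.smul_apply, smul_eq_mul] at h1
  have h2 : dotInt (v : GolayPt → ℤ) (row R p) = 8 * ((g.1 v : leechLattice) : GolayPt → ℤ) p := by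
    rw [h1]
    unfold dotInt
    exact Finset.sum_congr rfl fun i _ => by rw [h i p]
  show _ = dotInt (v : GolayPt → ℤ) (row R p) / 8
  rw [h2, Int.mul_ediv_cancel_left _ (by norm_num)]

/-- a diagonal matrix of signs -/
def sgR (m : ℕ) : List (List ℤ) :=
  (List.range 24).map fun i => (List.range 24).map fun j => if j = i then (if m.testBit i then -8 else 8) else 0

theorem rep_sign {m : ℕ} (hm : GolayBase.isCode m = true) : Rep (Co0Mono.signCo0 (cd m)) (sgR m) := by
  refine rep_of_e8 (by rw [sgR, List.length_map, List.length_range]) fun i p => ?_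
  have h1 : ((((Co0Mono.signCo0 (cd m)) : Co0).1 (Co0Basic.e8 i) : leechLattice) : GolayPt → ℤ) p =
      Co0Mono.signMap (cd m) ((Co0Basic.e8 i : leechLattice) : GolayPt → ℤ) p := rfl
  have h2 : row (sgR m) p i = (if GolayBase.idx i = GolayBase.idx p then
      (if m.testBit (GolayBase.idx p) then -8 else 8) else (0 : ℤ)) := by
    unfold row sgR
    have h : GolayBase.idx p < 24 := GolayBase.idx_lt p
    rw [List.getD_eq_getElem _ _ (by simpa using h), List.getElem_map, List.getElem_range, getD_range_map]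
  rw [h1, h2, Co0Mono.signMap_apply, Co0Basic.e8_apply, coe_cd hm, GolayBase.word_apply]
  by_cases h : p = i
  · subst h
    rw [if_pos rfl, if_pos rfl]
    split_ifs with h3
    · simp [Co0Mono.sgn]
    · simp [Co0Mono.sgn]
  · have h4 : ¬ GolayBase.idx i = GolayBase.idx p := fun h3 => h (by rw [← GolayBase.pt_idx p, ← h3, GolayBase.pt_idx])
    rw [if_neg h, if_neg h4, mul_zero]

/-! ### words in `Co1` -/

section words

variable {e : ℕ → Co0} {M : ℕ → List (List ℤ)}

/-- substitution: `false` is `c`, `true` is `y` -/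
def sub (cw yw : List ℕ) : List Bool → List ℕ
  | [] => []
  | b :: w => sub cw yw w ++ (if b then yw else cw)

theorem sub_cons (cw yw : List ℕ) (b : Bool) (w : List Bool) :
    V e (sub cw yw (b :: w)) = (if b then V e yw else V e cw) * V e (sub cw yw w) := by
  rw [sub, V_append]
  cases b <;> rfl

theorem sub_nil (cw yw : List ℕ) : V e (sub cw yw []) = 1 := map_one _

theorem sub_mem (cw yw : List ℕ) (w : List Bool) : V e (sub cw yw w) ∈ closure {V e cw, V e yw} := by
  induction w with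
  | nil => rw [sub_nil]; exact one_mem _
  | cons b w ih =>
    rw [sub_cons]
    refine mul_mem ?_ ih
    cases b
    · exact Subgroup.subset_closure (Or.inl rfl)
    · exact Subgroup.subset_closure (Or.inr rfl)

/-- the check -/
def chk (M : ℕ → List (List ℤ)) (cw yw : List ℕ) (w23 w13 : List Bool) (k : ℕ) : Bool :=
  ((((neP M cw 1 && relP M yw 3) && relP M (sub cw yw w23) 23) && neP M (sub cw yw w23) 1) &&
    relP M (sub cw yw w13) (k * 13)) && neP M (sub cw yw w13) k

theorem gen_of (B : Base) {H : Subgroup Co1} (h23 : 23 ∣ Nat.card H) (h13 : 13 ∣ Nat.card H) : H = ⊤ := by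
  have := CoOne.fin
  rcases CoOne.known13 with h | h
  · rcases (CoOne.ctx B h (by norm_num)).over [(2, 21), (3, 9), (5, 4), (7, 2), (11, 1)] [] [] 20 (by decide +kernel) h23 h13
      (fun p hp => absurd hp List.not_mem_nil) with h1 | h1
    · exact h1
    · exact absurd h1 List.not_mem_nil
  · rcases (CoOne.ctx B h (by norm_num)).over [(2, 21), (3, 9), (5, 4), (7, 2), (11, 1)] [] [] 20 (by decide +kernel) h23 h13
      (fun p hp => absurd hp List.not_mem_nil) with h1 | h1
    · exact h1
    · exact absurd h1 List.not_mem_nil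

/-- what a certificate gives -/
theorem gen_of_chk (B : Base) (hM : ∀ i, Rep (e i) (M i)) {cw yw : List ℕ} {w23 w13 : List Bool} {k : ℕ}
    (h : chk M cw yw w23 w13 k = true) : V e cw ≠ 1 ∧ V e yw ^ 3 = 1 ∧ closure {V e cw, V e yw} = ⊤ ∧
      orderOf (V e (sub cw yw w23)) = 23 ∧ orderOf (V e (sub cw yw w13) ^ k) = 13 := by
  have := CoOne.fin
  unfold chk at h
  simp only [Bool.and_eq_true] at h
  obtain ⟨⟨⟨⟨⟨h1, h2⟩, h3⟩, h4⟩, h5⟩, h6⟩ := h
  have g1 := pow_ne_one_of_neP hM h1
  have g2 := pow_eq_one_of_relP hM h2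
  have g3 := pow_eq_one_of_relP hM h3
  have g4 := pow_ne_one_of_neP hM h4
  have g5 := pow_eq_one_of_relP hM h5
  have g6 := pow_ne_one_of_neP hM h6
  rw [pow_one] at g1 g4
  have p23 : Fact (Nat.Prime 23) := ⟨by norm_num⟩
  have p13 : Fact (Nat.Prime 13) := ⟨by norm_num⟩
  refine ⟨g1, g2, gen_of B ?_ ?_, orderOf_eq_prime g3 g4, orderOf_eq_prime (by rw [← pow_mul, g5]) g6⟩
  · exact H147.Fpr.dvd_card_of_mem (w := V e (sub cw yw w23)) (m := 1) (sub_mem _ _ _) p23.1 (by rw [one_mul, g3])
      (by rw [pow_one]; exact g4)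
  · exact H147.Fpr.dvd_card_of_mem (w := V e (sub cw yw w13)) (m := k) (sub_mem _ _ _) p13.1 g5 g6

end words

/-! ### the letters -/

/-- the letters in `Co0` -/
noncomputable def e : ℕ → Co0
  | 0 => Co0Mono.signCo0 (cd 4282144)
  | 1 => Co0Mono.signCo0 (cd 12080399)
  | 2 => BpSevenCo.Data.e 4
  | 3 => LThreeCo1.Class.c0
  | 4 => LThreeCo1.Class.c6
  | 5 => LThreeCo1.Class.c8
  | 6 => LThreeCo1.Class.c12
  | 7 => CoFive.Rel.e 3
  | 8 => CoFive.Rel.e 1
  | 9 => CoFive.Rel.e 2
  | 10 => CpAutMSeven.Mat.e 0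
  | 11 => BpSevenCo.Data.e 0
  | 12 => LThreeCo1.Rel.e 11
  | 13 => LThreeCo1.Rel.e 8
  | 14 => BpSevenCo.Data.e 2
  | 15 => LThreeCo1.Rel.e 9
  | 16 => LThreeCo1.Rel.e 4
  | 17 => LThreeCo1.Rel.e 3
  | 18 => mk CoOneLet.ok_x
  | 19 => (mk CoOneLet.ok_x)⁻¹
  | 20 => (CoFive.Rel.e 3)⁻¹
  | 21 => (LThreeCo1.Rel.e 29)⁻¹
  | 22 => CoFive.Rel.e 5
  | 23 => (CoFive.Rel.e 5)⁻¹
  | 24 => BpSevenCo.Data.e 3
  | 25 => (BpSevenCo.Data.e 3)⁻¹
  | 26 => (CpAutMSeven.Mat.e 0)⁻¹
  | 27 => LThreeCo1.Rel.e 29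
  | _ => LThreeCo1.Rel.e 1

/-- the matrices of the letters -/
def M : ℕ → List (List ℤ)
  | 0 => sgR 4282144
  | 1 => sgR 12080399
  | 2 => BpSevenCo.Data.M 4
  | 3 => LThreeCo1.Rel.M 1
  | 4 => LThreeCo1.Ranks.Q6
  | 5 => LThreeCo1.Rel.M 29
  | 6 => LThreeCo1.Ranks.Q12
  | 7 => CoFive.Rel.M 3
  | 8 => CoFive.Rel.M 1
  | 9 => CoFive.Rel.M 2
  | 10 => CpAutMSeven.Mat.M 0
  | 11 => BpSevenCo.Data.M 0
  | 12 => LThreeCo1.Rel.M 11
  | 13 => LThreeCo1.Rel.M 8
  | 14 => BpSevenCo.Data.M 2
  | 15 => LThreeCo1.Rel.M 9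
  | 16 => LThreeCo1.Rel.M 4
  | 17 => LThreeCo1.Rel.M 3
  | 18 => CoOneLet.xR
  | 19 => CoOneLet.xC
  | 20 => tr (CoFive.Rel.M 3)
  | 21 => tr (LThreeCo1.Rel.M 29)
  | 22 => CoFive.Rel.M 5
  | 23 => tr (CoFive.Rel.M 5)
  | 24 => BpSevenCo.Data.M 3
  | 25 => tr (BpSevenCo.Data.M 3)
  | 26 => CpAutMSeven.Mat.cR
  | 27 => LThreeCo1.Rel.M 29
  | _ => LThreeCo1.Rel.M 1

theorem hM : ∀ i, Rep (e i) (M i)
  | 0 => rep_sign (by decide +kernel)
  | 1 => rep_sign (by decide +kernel)
  | 2 => BpSevenCo.Data.rep 4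
  | 3 => LThreeCo1.Ranks.rep0
  | 4 => LThreeCo1.Ranks.rep6
  | 5 => LThreeCo1.Ranks.rep8
  | 6 => LThreeCo1.Ranks.rep12
  | 7 => CoFive.Rel.rep 3
  | 8 => CoFive.Rel.rep 1
  | 9 => CoFive.Rel.rep 2
  | 10 => CpAutMSeven.Mat.rep 0
  | 11 => BpSevenCo.Data.rep 0
  | 12 => LThreeCo1.Rel.rep 11
  | 13 => LThreeCo1.Rel.rep 8
  | 14 => BpSevenCo.Data.rep 2
  | 15 => LThreeCo1.Rel.rep 9
  | 16 => LThreeCo1.Rel.rep 4
  | 17 => LThreeCo1.Rel.rep 3
  | 18 => rep_mk CoOneLet.ok_x
  | 19 => rep_inv CoOneLet.ok_x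
  | 20 => rep_inv (CoFive.Rel.okM 3)
  | 21 => rep_inv (LThreeCo1.Rel.okM 29)
  | 22 => CoFive.Rel.rep 5
  | 23 => rep_inv (CoFive.Rel.okM 5)
  | 24 => BpSevenCo.Data.rep 3
  | 25 => rep_inv (BpSevenCo.Data.okM 3)
  | 26 => rep_inv CpAutMSeven.Mat.okR
  | 27 => LThreeCo1.Rel.rep 29
  | _ + 28 => LThreeCo1.Rel.rep 1

theorem k_c2A : chk M [0] [13] [false, true, false, true, false, true, true, false, true, false, true, true]
    [false, true] 2 = true := by decide +kernel

theorem k_c2C : chk M [1] [13] [false, true, false, true, false, true, false, true, true]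
    [false, true] 3 = true := by decide +kernel

theorem k_c2B : chk M [2] [23, 19, 27, 18, 22] [false, true]
    [false, true, false, true, true] 1 = true := by decide +kernel

theorem k_c3A : chk M [3] [25, 26, 27, 10, 24] [false, false, true, false, true, false, true, false, true, false, true, true, false, true, true, false, true, true]
    [false, false, true, false, true, false, true, true, false, true, true, false, true, false, true] 1 = true := by decide +kernel

theorem k_c3C : chk M [4] [20, 14, 7] [false, false, true, false, true]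
    [false, false, true, true, false, true, false, true, true] 1 = true := by decide +kernel

theorem k_c3D : chk M [5] [18, 15, 19] [false, false, true]
    [false, true] 2 = true := by decide +kernel

theorem k_c3B : chk M [6] [19, 27, 18] [false, false, true, false, true, false, true, true]
    [false, true] 2 = true := by decide +kernel

theorem k_c5B : chk M [7] [17] [false, false, false, true]
    [false, false, false, true, false, true, false, true] 1 = true := by decide +kernel

theorem k_c5C : chk M [8] [21, 14, 27] [false, true]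
    [false, false, true] 1 = true := by decide +kernel

theorem k_c5A : chk M [7, 7, 9] [19, 13, 18] [false, true]
    [false, false, true] 1 = true := by decide +kernel

theorem k_c7B : chk M [10] [19, 28, 18] [false, true]
    [false, false, false, false, true] 1 = true := by decide +kernel

theorem k_c7A : chk M [11] [16] [false, true, true]
    [false, false, true] 1 = true := by decide +kernel

theorem k_c11 : chk M [12] [14] [false, true, true]
    [false, false, false, false, false, true, true] 1 = true := by decide +kernel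

end Cfsg.Agent.H861.Gen.CoOne
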